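import Groth.Agent.InfNbhd.Main
import Mathlib

/-!
A uniform infinitesimal neighbourhood detecting vanishing, by descent to a Noetherian base.
-/

set_option autoImplicit false
set_option linter.style.haveILetI false
set_option maxHeartbeats 1000000
set_option synthInstance.maxHeartbeats 200000

universe u

open TensorProduct

namespace Groth.Agent.InfNbhd

/-- descent to a finitely generated subring -/
theorem exists_model (R B : Type u) [CommRing R] [CommRing B] [Algebra R B] [Algebra.Smooth R B]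
    (e : B →ₐ[R] R) (J : Ideal B) (hJ : J.FG) :
    ∃ (R₀ : Type u) (_ : CommRing R₀) (_ : Algebra R₀ R) (B₀ : Type u) (_ : CommRing B₀) (_ : Algebra R₀ B₀)
      (e₀ : B₀ →ₐ[R₀] R₀) (J₀ : Ideal B₀) (ε : B ≃ₐ[R] R ⊗[R₀] B₀),
      IsNoetherianRing R₀ ∧ Algebra.Smooth R₀ B₀ ∧ (∀ b, e (ε.symm (1 ⊗ₜ b)) = algebraMap R₀ R (e₀ b)) ∧
      J = J₀.map (ε.symm.toRingEquiv.toRingHom.comp
        (Algebra.TensorProduct.includeRight : B₀ →ₐ[R₀] R ⊗[R₀] B₀).toRingHom) := by
  classical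
  obtain ⟨A₀, B₀₀, _, _, hA₀, hsm, ⟨ε₀⟩⟩ := Algebra.Smooth.exists_subalgebra_fg ℤ R B
  obtain ⟨sJ, hsJ⟩ := hJ
  obtain ⟨gs, hgs⟩ := Algebra.FiniteType.out (R := A₀) (A := B₀₀)
  have hfin : ∀ x : B, ∃ S : Finset (R × B₀₀), ε₀ x = ∑ i ∈ S, i.1 ⊗ₜ[A₀] i.2 :=
    fun x => TensorProduct.exists_finset _
  choose S hS using hfin
  let ψ : B₀₀ →ₐ[A₀] R := (e.restrictScalars A₀).comp
    ((ε₀.symm.toAlgHom.restrictScalars A₀).comp Algebra.TensorProduct.includeRight)
  let Ts : Finset R := gs.image ψ ∪ sJ.biUnion fun x => (S x).image Prod.fst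
  let A₁ : Subalgebra ℤ R := A₀ ⊔ Algebra.adjoin ℤ (Ts : Set R)
  have hA₁ : A₁.FG := hA₀.sup ⟨Ts, rfl⟩
  haveI : Algebra.FiniteType ℤ A₁ := A₁.fg_iff_finiteType.1 hA₁
  haveI : IsNoetherianRing A₁ := Algebra.FiniteType.isNoetherianRing ℤ A₁
  have hle : A₀ ≤ A₁ := le_sup_left
  letI : Algebra A₀ A₁ := (Subalgebra.inclusion hle).toRingHom.toAlgebra
  haveI : IsScalarTower A₀ A₁ R := IsScalarTower.of_algebraMap_eq fun _ => rfl
  have hTs : ∀ r ∈ Ts, r ∈ A₁ := fun r hr => (le_sup_right : _ ≤ A₁) (Algebra.subset_adjoin hr)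
  have hψ : ∀ b, ψ b ∈ A₁ := fun b => by
    have hb : b ∈ Algebra.adjoin A₀ (gs : Set B₀₀) := hgs ▸ Algebra.mem_top
    induction hb using Algebra.adjoin_induction with
    | mem g hg => exact hTs _ (Finset.mem_union_left _ (Finset.mem_image_of_mem _ hg))
    | algebraMap r => rw [AlgHom.commutes]; exact hle r.2
    | add x y _ _ hx hy => rw [map_add]; exact add_mem hx hy
    | mul x y _ _ hx hy => rw [map_mul]; exact mul_mem hx hy
  let φ₀ : B₀₀ →ₐ[A₀] A₁ :=
    { toFun := fun b => ⟨ψ b, hψ b⟩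
      map_one' := Subtype.ext (map_one ψ)
      map_mul' := fun x y => Subtype.ext (map_mul ψ x y)
      map_zero' := Subtype.ext (map_zero ψ)
      map_add' := fun x y => Subtype.ext (map_add ψ x y)
      commutes' := fun r => Subtype.ext (ψ.commutes r) }
  let ε : B ≃ₐ[R] R ⊗[A₁] (A₁ ⊗[A₀] B₀₀) :=
    ε₀.trans (Algebra.TensorProduct.cancelBaseChange A₀ A₁ R R B₀₀).symm
  let e₀ : A₁ ⊗[A₀] B₀₀ →ₐ[A₁] A₁ := Algebra.TensorProduct.lift (Algebra.ofId A₁ A₁) φ₀ fun _ _ => .all _ _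
  have hε : ∀ (a : A₁) (b : B₀₀), ε.symm (1 ⊗ₜ[A₁] (a ⊗ₜ[A₀] b)) = ε₀.symm ((a : R) ⊗ₜ[A₀] b) := fun a b => by
    simp [ε, Algebra.smul_def]
  let ι : A₁ ⊗[A₀] B₀₀ →+* B := ε.symm.toRingEquiv.toRingHom.comp
        (Algebra.TensorProduct.includeRight : A₁ ⊗[A₀] B₀₀ →ₐ[A₁] R ⊗[A₁] (A₁ ⊗[A₀] B₀₀)).toRingHom
  have hι : ∀ x ∈ sJ, ∃ z, ι z = x := fun x hx => by
    refine ⟨∑ i ∈ (S x).attach,
      (⟨i.1.1, hTs _ (Finset.mem_union_right _ (Finset.mem_biUnion.2 ⟨x, hx, Finset.mem_image_of_mem _ i.2⟩))⟩ : A₁)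
        ⊗ₜ[A₀] i.1.2, ?_⟩
    rw [map_sum]
    apply ε₀.injective
    rw [map_sum, hS x, ← Finset.sum_attach (S x)]
    refine Finset.sum_congr rfl fun i _ => ?_
    show ε₀ (ε.symm (1 ⊗ₜ[A₁] (_ ⊗ₜ[A₀] _))) = _
    rw [hε, AlgEquiv.apply_symm_apply]
  choose z hz using hι
  refine ⟨A₁, inferInstance, inferInstance, A₁ ⊗[A₀] B₀₀, inferInstance, inferInstance, e₀,
    Ideal.span (Set.range fun x : sJ => z x.1 x.2), ε, inferInstance, inferInstance, fun b => ?_, ?_⟩
  · induction b using TensorProduct.induction_on with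
    | zero => simp
    | tmul a b =>
      rw [hε, Algebra.TensorProduct.lift_tmul, map_mul]
      rw [show ((a : R) ⊗ₜ[A₀] b) = algebraMap R (R ⊗[A₀] B₀₀) a * (1 : R) ⊗ₜ[A₀] b by
        rw [Algebra.TensorProduct.algebraMap_apply, Algebra.TensorProduct.tmul_mul_tmul, mul_one, one_mul,
          Algebra.algebraMap_self, RingHom.id_apply],
        map_mul, AlgEquiv.commutes, map_mul, AlgHom.commutes]
      rfl
    | add x y hx hy => simp only [TensorProduct.tmul_add, map_add, hx, hy]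
  · rw [← hsJ, Ideal.map_span, ← Set.range_comp]
    congr 1
    ext x
    constructor
    · exact fun hx => ⟨⟨x, hx⟩, hz x hx⟩
    · rintro ⟨⟨y, hy⟩, rfl⟩
      show ι (z y hy) ∈ _
      rw [hz y hy]
      exact hy

/-- **the uniform neighbourhood** -/
theorem exists_detect (R B : Type u) [CommRing R] [CommRing B] [Algebra R B] [Algebra.Smooth R B]
    (hconn : ∀ (K : Type u) [Field K] [IsAlgClosed K] [Algebra R K], ConnectedSpace (PrimeSpectrum (K ⊗[R] B)))
    (e : B →ₐ[R] R) (J : Ideal B) (hJ : J.FG) :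
    ∃ n : ℕ, ∀ (R' : Type u) [CommRing R'] [Algebra R R'],
      (∀ x ∈ J, (1 : R') ⊗ₜ[R] x = (0 : R' ⊗[R] B)) ↔
        (∀ x ∈ J, (1 : R') ⊗ₜ[R] (Ideal.Quotient.mk (RingHom.ker e ^ (n + 1)) x) = 0) := by
  obtain ⟨R₀, _, _, B₀, _, _, e₀, J₀, ε, _, _, he₀, hJ₀⟩ := exists_model R B e J hJ
  let ι : B₀ →+* B := ε.symm.toRingEquiv.toRingHom.comp
    (Algebra.TensorProduct.includeRight : B₀ →ₐ[R₀] R ⊗[R₀] B₀).toRingHom
  obtain ⟨N, hN⟩ := monotone_stabilizes_iff_noetherian.2 (inferInstance : IsNoetherian R₀ R₀)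
    ⟨van e₀ J₀, van_mono e₀ J₀⟩
  refine ⟨N, fun R' _ _ => ⟨fun h x hx => ?_, fun h => ?_⟩⟩
  · have h1 := congrArg ((Ideal.Quotient.mkₐ R (RingHom.ker e ^ (N + 1))).toLinearMap.lTensor R') (h x hx)
    rwa [LinearMap.lTensor_tmul, map_zero] at h1
  letI : Algebra R₀ B := ((algebraMap R B).comp (algebraMap R₀ R)).toAlgebra
  haveI : IsScalarTower R₀ R B := IsScalarTower.of_algebraMap_eq fun _ => rfl
  letI : Algebra R₀ R' := ((algebraMap R R').comp (algebraMap R₀ R)).toAlgebra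
  haveI : IsScalarTower R₀ R R' := IsScalarTower.of_algebraMap_eq fun _ => rfl
  -- functionals descend
  have hker : ∀ b, ι b - algebraMap R B (e (ι b)) ∈ (RingHom.ker e₀).map ι := fun b => by
    have h1 : b - algebraMap R₀ B₀ (e₀ b) ∈ RingHom.ker e₀ := by simp [RingHom.mem_ker]
    convert Ideal.mem_map_of_mem ι h1 using 1
    rw [map_sub]
    congr 1
    show _ = ε.symm (Algebra.TensorProduct.includeRight (algebraMap R₀ B₀ (e₀ b)))
    rw [AlgHom.commutes, IsScalarTower.algebraMap_apply R₀ R (R ⊗[R₀] B₀), AlgEquiv.commutes]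
    exact congrArg _ (he₀ b)
  have hker' : RingHom.ker e ≤ (RingHom.ker e₀).map ι := fun w hw => by
    suffices h1 : ∀ v : R ⊗[R₀] B₀, ε.symm v - algebraMap R B (e (ε.symm v)) ∈ (RingHom.ker e₀).map ι by
      simpa [RingHom.mem_ker.1 hw] using h1 (ε w)
    intro v
    induction v using TensorProduct.induction_on with
    | zero => simp
    | tmul r b =>
      have h2 : ε.symm (r ⊗ₜ[R₀] b) = algebraMap R B r * ι b := by
        rw [show r ⊗ₜ[R₀] b = algebraMap R (R ⊗[R₀] B₀) r * (1 : R) ⊗ₜ[R₀] b by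
          rw [Algebra.TensorProduct.algebraMap_apply, Algebra.TensorProduct.tmul_mul_tmul, mul_one, one_mul,
            Algebra.algebraMap_self, RingHom.id_apply], map_mul, AlgEquiv.commutes]
        rfl
      rw [h2, map_mul e, AlgHom.commutes, map_mul (algebraMap R B), Algebra.algebraMap_self, RingHom.id_apply,
        ← mul_sub]
      exact Ideal.mul_mem_left _ _ (hker b)
    | add x y hx hy =>
      rw [map_add, map_add, map_add, add_sub_add_comm]
      exact add_mem hx hy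
  have hvan : van e₀ J₀ N ≤ RingHom.ker (algebraMap R₀ R') := by
    refine Ideal.span_le.2 ?_
    rintro _ ⟨x₀, hx₀, φ₀, rfl⟩
    let φ : B →ₗ[R] R := (LinearMap.liftBaseChange R ((Algebra.linearMap R₀ R).comp
      (φ₀.comp (Ideal.Quotient.mkₐ R₀ (RingHom.ker e₀ ^ (N + 1))).toLinearMap))).comp ε.toLinearMap
    have hφ : ∀ (v : R ⊗[R₀] B₀) (c : B₀), c ∈ RingHom.ker e₀ ^ (N + 1) → φ (ε.symm v * ι c) = 0 := by
      intro v c hc
      induction v using TensorProduct.induction_on with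
      | zero => simp
      | tmul r b =>
        show LinearMap.liftBaseChange R _ (ε (ε.symm (r ⊗ₜ b) * ε.symm (1 ⊗ₜ c))) = 0
        rw [← map_mul ε.symm, AlgEquiv.apply_symm_apply, Algebra.TensorProduct.tmul_mul_tmul,
          LinearMap.liftBaseChange_tmul]
        have : Ideal.Quotient.mk (RingHom.ker e₀ ^ (N + 1)) (b * c) = 0 :=
          Ideal.Quotient.eq_zero_iff_mem.2 (Ideal.mul_mem_left _ b hc)
        simp [this]
      | add x y hx hy => rw [map_add, add_mul, map_add, hx, hy, add_zero]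
    have hφ0 : RingHom.ker e ^ (N + 1) ≤ (RingHom.ker e₀ ^ (N + 1)).map ι :=
      (Ideal.pow_right_mono hker' (N + 1)).trans (Ideal.map_pow _ _ _).ge
    have hkill : ∀ w ∈ RingHom.ker e ^ (N + 1), φ w = 0 := by
      intro w hw
      have hw' := hφ0 hw
      rw [Ideal.map, ← Submodule.mem_toAddSubmonoid] at hw'
      suffices ∀ u, φ (u * w) = 0 by simpa using this 1
      rw [Submodule.mem_toAddSubmonoid] at hw'
      clear hw
      induction hw' using Submodule.span_induction with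
      | mem y hy =>
        obtain ⟨c, hc, rfl⟩ := hy
        intro u
        simpa using hφ (ε u) c hc
      | zero => simp
      | add x y _ _ hx hy => intro u; rw [mul_add, map_add, hx, hy, add_zero]
      | smul a y _ hy => intro u; rw [smul_eq_mul, ← mul_assoc, hy]
    let φ' : (B ⧸ RingHom.ker e ^ (N + 1)) →ₗ[R] R :=
      (((RingHom.ker e ^ (N + 1)).restrictScalars R).liftQ φ hkill).comp
        (Submodule.Quotient.restrictScalarsEquiv R (RingHom.ker e ^ (N + 1))).symm.toLinearMap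
    have hx : ι x₀ ∈ J := hJ₀ ▸ Ideal.mem_map_of_mem ι hx₀
    have h1 := congrArg (fun z => TensorProduct.rid R R' (φ'.lTensor R' z)) (h _ hx)
    have h2 : φ' (Ideal.Quotient.mk _ (ι x₀)) = algebraMap R₀ R (φ₀ (Ideal.Quotient.mk _ x₀)) := by
      show φ (ι x₀) = _
      simp [φ, ι]
    simpa [h2, Algebra.smul_def, ← IsScalarTower.algebraMap_apply] using h1
  -- the descended quotient
  let A := R₀ ⧸ van e₀ J₀ N
  have hA : ∀ n : ℕ, van e₀ J₀ n ≤ RingHom.ker (algebraMap R₀ A) := fun n => by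
    rw [Ideal.Quotient.algebraMap_eq, Ideal.mk_ker]
    exact (van_mono e₀ J₀ (le_max_left n N)).trans (hN (max n N) (le_max_right n N)).ge
  let g : A →ₐ[R₀] R' := Ideal.Quotient.liftₐ (van e₀ J₀ N) (Algebra.ofId R₀ R') fun a ha => hvan ha
  let incR : B →ₐ[R] R' ⊗[R] B := Algebra.TensorProduct.includeRight
  let Ω : A ⊗[R₀] B₀ →ₐ[R₀] R' ⊗[R] B :=
    Algebra.TensorProduct.lift ((Algebra.TensorProduct.includeLeft (S := R₀)).comp g)
      ((incR.restrictScalars R₀).comp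
        ((ε.symm.toAlgHom.restrictScalars R₀).comp Algebra.TensorProduct.includeRight)) fun _ _ => .all _ _
  have hΩ : ∀ c, Ω ((1 : A) ⊗ₜ[R₀] c) = (1 : R') ⊗ₜ[R] ι c := fun c => by
    simp [Ω, incR, ι]
  have hgen : ∀ x₀ ∈ J₀, incR (ι x₀) = 0 := fun x₀ hx₀ => by
    obtain ⟨a, ha, hax⟩ := exists_fixed e₀ A x₀ fun n => vanish_of_van_le e₀ J₀ n A (hA n) hx₀
    have h1 := congrArg Ω hax
    rw [map_mul, hΩ] at h1
    refine nzd_of_section hconn e R' (1 - Ω a) _ ?_ (by rw [sub_mul, one_mul]; exact sub_eq_zero.2 h1.symm)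
    let e' : R' ⊗[R] B →ₐ[R'] R' :=
      Algebra.TensorProduct.lift (Algebra.ofId R' R') ((Algebra.ofId R R').comp e) fun _ _ => .all _ _
    show e' (1 - Ω a) = 1
    rw [map_sub, map_one, sub_eq_self]
    refine RingHom.mem_ker.1 ?_
    have hle : (RingHom.ker e₀).map (Algebra.TensorProduct.includeRight : B₀ →ₐ[R₀] A ⊗[R₀] B₀) ≤
        RingHom.ker (e'.toRingHom.comp Ω.toRingHom) := Ideal.map_le_iff_le_comap.2 fun c hc => by
      show e' (Ω (1 ⊗ₜ c)) = 0
      rw [hΩ]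
      show e' (1 ⊗ₜ ι c) = 0
      simp only [e', Algebra.TensorProduct.lift_tmul, map_one, one_mul, AlgHom.comp_apply]
      rw [show e (ι c) = algebraMap R₀ R (e₀ c) from he₀ c, RingHom.mem_ker.1 hc, map_zero, map_zero]
    exact hle ha
  intro x hx
  rw [hJ₀] at hx
  have hle : J₀.map ι ≤ RingHom.ker incR :=
    Ideal.map_le_iff_le_comap.2 fun c hc => RingHom.mem_ker.2 (hgen c hc)
  exact hle hx

end Groth.Agent.InfNbhd
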