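import Groth.Agent.InfNbhd.Nzd
import Mathlib

/-!
Vanishing on a smooth algebra with connected fibres is detected on an infinitesimal neighbourhood of a section.
-/

set_option autoImplicit false
set_option linter.style.haveILetI false
set_option maxHeartbeats 1000000

universe u

open TensorProduct

namespace Groth.Agent.InfNbhd

section Trunc

variable {R B : Type u} [CommRing R] [CommRing B] [Algebra R B] (e : B →ₐ[R] R)

/-- truncations of a formally smooth algebra along a section are retracts of truncated polynomial rings -/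
theorem projective_quot [Algebra.FormallySmooth R B] [Algebra.FiniteType R B] (n : ℕ) :
    Module.Projective R (B ⧸ RingHom.ker e ^ (n + 1)) ∧ Module.Finite R (B ⧸ RingHom.ker e ^ (n + 1)) := by
  classical
  obtain ⟨s, hs⟩ := Algebra.FiniteType.out (R := R) (A := B)
  let σ := { b // b ∈ s }
  let π : MvPolynomial σ R →ₐ[R] B := MvPolynomial.aeval fun i => (i : B) - algebraMap R B (e i)
  have hπ : Function.Surjective π := by
    rw [← AlgHom.range_eq_top, eq_top_iff, ← hs, Algebra.adjoin_le_iff]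
    intro b hb
    exact ⟨MvPolynomial.X ⟨b, hb⟩ + MvPolynomial.C (e b), by simp [π]⟩
  let V := MvPolynomial.idealOfVars σ R
  have hπV : V ≤ (RingHom.ker e).comap π := by
    show Ideal.span _ ≤ _
    rw [Ideal.span_le]
    rintro _ ⟨i, rfl⟩
    simp [π, Ideal.mem_comap, RingHom.mem_ker]
  let P := MvPolynomial σ R ⧸ V ^ (n + 1)
  let q := Ideal.Quotient.mkₐ R (V ^ (n + 1))
  let M := B ⧸ RingHom.ker e ^ (n + 1)
  let τ : P →ₐ[R] M := Ideal.Quotient.liftₐ (V ^ (n + 1)) ((Ideal.Quotient.mkₐ R (RingHom.ker e ^ (n + 1))).comp π)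
    fun F hF => by
      show Ideal.Quotient.mk (RingHom.ker e ^ (n + 1)) (π F) = 0
      rw [Ideal.Quotient.eq_zero_iff_mem]
      exact Ideal.pow_right_mono hπV (n + 1) |>.trans (Ideal.le_comap_pow π (n + 1)) hF
  have hτ : Function.Surjective τ := fun y => by
    obtain ⟨b, rfl⟩ := Ideal.Quotient.mk_surjective y
    obtain ⟨F, rfl⟩ := hπ b
    exact ⟨q F, rfl⟩
  have hker : RingHom.ker τ.toRingHom ≤ V.map q := by
    intro z hz
    obtain ⟨F, rfl⟩ := Ideal.Quotient.mk_surjective z
    refine Ideal.mem_map_of_mem _ ?_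
    have h1 : π F ∈ RingHom.ker e ^ (n + 1) := Ideal.Quotient.eq_zero_iff_mem.1 hz
    have h2 : e (π F) = 0 := Ideal.pow_le_self (Nat.succ_ne_zero n) h1
    have h3 : e.comp π = MvPolynomial.aeval (fun _ => (0 : R)) := MvPolynomial.algHom_ext fun i => by simp [π]
    rw [← AlgHom.comp_apply, h3, MvPolynomial.aeval_zero', Algebra.algebraMap_self, RingHom.id_apply] at h2
    rw [← pow_one V, MvPolynomial.mem_pow_idealOfVars_iff']
    intro d hd
    rwa [(Finsupp.degree_eq_zero_iff d).1 (by omega)]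
  have hnil : IsNilpotent (RingHom.ker τ.toRingHom) := by
    refine ⟨n + 1, le_bot_iff.1 ((Ideal.pow_right_mono hker (n + 1)).trans ?_)⟩
    rw [← Ideal.map_pow]
    exact (Ideal.map_quotient_self _).le
  let ρ : B →ₐ[R] P := Algebra.FormallySmooth.liftOfSurjective
    (Ideal.Quotient.mkₐ R (RingHom.ker e ^ (n + 1))) τ hτ hnil
  have hρ : ∀ b, τ (ρ b) = Ideal.Quotient.mk _ b :=
    Algebra.FormallySmooth.liftOfSurjective_apply (Ideal.Quotient.mkₐ R (RingHom.ker e ^ (n + 1))) τ hτ hnil
  have hρV : RingHom.ker e ≤ (V.map q).comap ρ := by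
    intro b hb
    obtain ⟨F, hF⟩ := Ideal.Quotient.mk_surjective (ρ b)
    have h1 := hρ b
    rw [← hF] at h1
    have h2 : π F - b ∈ RingHom.ker e ^ (n + 1) := Ideal.Quotient.eq.1 h1
    have h3 := Ideal.pow_le_self (Nat.succ_ne_zero n) h2
    rw [RingHom.mem_ker, map_sub, hb, sub_zero] at h3
    rw [Ideal.mem_comap, ← hF]
    refine Ideal.mem_map_of_mem _ ?_
    have h4 : e.comp π = MvPolynomial.aeval (fun _ => (0 : R)) := MvPolynomial.algHom_ext fun i => by simp [π]
    rw [← AlgHom.comp_apply, h4, MvPolynomial.aeval_zero', Algebra.algebraMap_self, RingHom.id_apply] at h3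
    rw [← pow_one V, MvPolynomial.mem_pow_idealOfVars_iff']
    intro d hd
    rwa [(Finsupp.degree_eq_zero_iff d).1 (by omega)]
  let sec : M →ₐ[R] P := Ideal.Quotient.liftₐ _ ρ fun b hb => by
    have h1 := (Ideal.pow_right_mono hρV (n + 1)).trans (Ideal.le_comap_pow ρ (n + 1)) hb
    rw [Ideal.mem_comap, ← Ideal.map_pow] at h1
    exact Ideal.mem_bot.1 ((Ideal.map_quotient_self (V ^ (n + 1))).le h1)
  have hsec : τ.toLinearMap.comp sec.toLinearMap = LinearMap.id := LinearMap.ext fun y => by
    obtain ⟨b, rfl⟩ := Ideal.Quotient.mk_surjective y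
    exact hρ b
  have hfree : Module.Free R P ∧ Module.Finite R P := by
    let D : Set (σ →₀ ℕ) := {d | d.degree < n + 1}
    haveI : Finite D := (Finsupp.finite_of_degree_lt (n + 1)).to_subtype
    haveI : Module.Finite R (MvPolynomial.restrictSupport R D) :=
      Module.Finite.of_basis (MvPolynomial.basisRestrictSupport R D)
    haveI : Module.Free R (MvPolynomial.restrictSupport R D) :=
      Module.Free.of_basis (MvPolynomial.basisRestrictSupport R D)
    let j : MvPolynomial.restrictSupport R D →ₗ[R] P := q.toLinearMap.comp (Submodule.subtype _)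
    have hj : Function.Bijective j := by
      refine ⟨(injective_iff_map_eq_zero j).2 fun x hx => Subtype.ext ?_, fun y => ?_⟩
      · have h1 : (x : MvPolynomial σ R) ∈ V ^ (n + 1) := Ideal.Quotient.eq_zero_iff_mem.1 hx
        rw [MvPolynomial.mem_pow_idealOfVars_iff'] at h1
        ext d
        by_cases hd : d.degree < n + 1
        · simpa using h1 d hd
        · have := (MvPolynomial.mem_restrictSupport_iff R).1 x.2
          simpa using MvPolynomial.notMem_support_iff.1 fun h => hd (this h)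
      · obtain ⟨F, rfl⟩ := Ideal.Quotient.mk_surjective y
        refine ⟨⟨∑ d ∈ F.support with d.degree < n + 1, MvPolynomial.monomial d (F.coeff d),
          (MvPolynomial.mem_restrictSupport_iff R).2 fun d hd => ?_⟩, ?_⟩
        · obtain ⟨c, hc, hdc⟩ := Finset.mem_biUnion.1 (MvPolynomial.support_sum hd)
          obtain rfl : d = c := Finset.mem_singleton.1 (MvPolynomial.support_monomial_subset hdc)
          exact (Finset.mem_filter.1 hc).2
        · show Ideal.Quotient.mk _ _ = Ideal.Quotient.mk _ F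
          rw [Ideal.Quotient.eq, MvPolynomial.mem_pow_idealOfVars_iff']
          intro d hd
          rw [MvPolynomial.coeff_sub, Submodule.subtype_apply, MvPolynomial.coeff_sum, Finset.sum_eq_single d, MvPolynomial.coeff_monomial,
            if_pos rfl, sub_self]
          · intro c _ hc
            rw [MvPolynomial.coeff_monomial, if_neg hc]
          · intro hc
            rw [MvPolynomial.coeff_monomial, if_pos rfl]
            by_contra hne
            exact hc (Finset.mem_filter.2 ⟨MvPolynomial.mem_support_iff.2 hne, hd⟩)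
    exact ⟨Module.Free.of_equiv (LinearEquiv.ofBijective j hj), Module.Finite.of_surjective j hj.2⟩
  haveI := hfree.1
  haveI := hfree.2
  exact ⟨Module.Projective.of_split sec.toLinearMap τ.toLinearMap hsec,
    Module.Finite.of_surjective τ.toLinearMap hτ⟩

/-- the ideal cutting out the vanishing of `J` on the `n`-th neighbourhood -/
def van (J : Ideal B) (n : ℕ) : Ideal R :=
  Ideal.span {r | ∃ x ∈ J, ∃ φ : (B ⧸ RingHom.ker e ^ (n + 1)) →ₗ[R] R, φ (Ideal.Quotient.mk _ x) = r}

theorem van_le_of_vanish (J : Ideal B) (n : ℕ) (A : Type u) [CommRing A] [Algebra R A]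
    (h : ∀ x ∈ J, (1 : A) ⊗ₜ[R] Ideal.Quotient.mk (RingHom.ker e ^ (n + 1)) x = 0) :
    van e J n ≤ RingHom.ker (algebraMap R A) := by
  refine Ideal.span_le.2 ?_
  rintro _ ⟨x, hx, φ, rfl⟩
  have := congrArg (fun z => TensorProduct.rid R A (φ.lTensor A z)) (h x hx)
  simpa [Algebra.smul_def] using this

theorem vanish_of_van_le [Algebra.FormallySmooth R B] [Algebra.FiniteType R B] (J : Ideal B) (n : ℕ)
    (A : Type u) [CommRing A] [Algebra R A] (h : van e J n ≤ RingHom.ker (algebraMap R A)) {x : B} (hx : x ∈ J) :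
    (1 : A) ⊗ₜ[R] Ideal.Quotient.mk (RingHom.ker e ^ (n + 1)) x = 0 := by
  obtain ⟨hP, hF⟩ := projective_quot e n
  haveI := hP
  haveI := hF
  obtain ⟨d, f, g, -, -, hfg⟩ := Module.Finite.exists_comp_eq_id_of_projective R (B ⧸ RingHom.ker e ^ (n + 1))
  set m := Ideal.Quotient.mk (RingHom.ker e ^ (n + 1)) x
  have h1 : (1 : A) ⊗ₜ[R] g m = 0 := by
    have hg : g m = ∑ i, g m i • (Pi.single i 1 : Fin d → R) := by
      ext j
      simp [Pi.single_apply]
    rw [hg, TensorProduct.tmul_sum]
    refine Finset.sum_eq_zero fun i _ => ?_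
    have h0 : algebraMap R A (g m i) = 0 := h (Ideal.subset_span ⟨x, hx, (LinearMap.proj i).comp g, rfl⟩)
    rw [← TensorProduct.smul_tmul, Algebra.smul_def, h0, zero_mul, TensorProduct.zero_tmul]
  have h2 := congrArg (f.lTensor A) h1
  rwa [LinearMap.lTensor_tmul, map_zero, ← LinearMap.comp_apply, hfg, LinearMap.id_apply] at h2

theorem van_mono [Algebra.FormallySmooth R B] [Algebra.FiniteType R B] (J : Ideal B) : Monotone (van e J) := by
  refine monotone_nat_of_le_succ fun n => ?_
  have h := van_le_of_vanish e J n (R ⧸ van e J (n + 1)) fun x hx => by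
    have h1 := vanish_of_van_le e J (n + 1) (R ⧸ van e J (n + 1)) (by rw [Ideal.Quotient.algebraMap_eq, Ideal.mk_ker]) hx
    have h2 := congrArg ((Ideal.Quotient.factorₐ R (Ideal.pow_le_pow_right (n + 1).le_succ :
      RingHom.ker e ^ (n + 2) ≤ RingHom.ker e ^ (n + 1))).toLinearMap.lTensor (R ⧸ van e J (n + 1))) h1
    rwa [LinearMap.lTensor_tmul, map_zero] at h2
  rwa [Ideal.Quotient.algebraMap_eq, Ideal.mk_ker] at h

/-- Krull intersection: vanishing on all neighbourhoods means being fixed by an element of the augmentation ideal -/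
theorem exists_fixed (A : Type u) [CommRing A] [Algebra R A] [IsNoetherianRing A] [Algebra.FiniteType R B] (x : B)
    (h : ∀ n : ℕ, (1 : A) ⊗ₜ[R] Ideal.Quotient.mk (RingHom.ker e ^ (n + 1)) x = 0) :
    ∃ a ∈ (RingHom.ker e).map (Algebra.TensorProduct.includeRight : B →ₐ[R] A ⊗[R] B),
      a * ((1 : A) ⊗ₜ[R] x) = (1 : A) ⊗ₜ[R] x := by
  haveI : IsNoetherianRing (A ⊗[R] B) := Algebra.FiniteType.isNoetherianRing A _
  let 𝔪 := (RingHom.ker e).map (Algebra.TensorProduct.includeRight : B →ₐ[R] A ⊗[R] B)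
  have hmem : (1 : A) ⊗ₜ[R] x ∈ (⨅ i : ℕ, 𝔪 ^ i • ⊤ : Submodule (A ⊗[R] B) (A ⊗[R] B)) := by
    rw [Submodule.mem_iInf]
    intro i
    rw [smul_eq_mul, Ideal.mul_top]
    refine Ideal.pow_le_pow_right i.le_succ ?_
    have h1 : (1 : A) ⊗ₜ[R] x ∈ RingHom.ker (Algebra.TensorProduct.map (AlgHom.id R A)
        (Ideal.Quotient.mkₐ R (RingHom.ker e ^ (i + 1)))) := h i
    rw [Algebra.TensorProduct.lTensor_ker _ (Ideal.Quotient.mkₐ_surjective R _)] at h1
    rw [show 𝔪 ^ i.succ = _ from (Ideal.map_pow _ _ _).symm]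
    rwa [show RingHom.ker (Ideal.Quotient.mkₐ R (RingHom.ker e ^ (i + 1))) = RingHom.ker e ^ (i + 1) from
      Ideal.Quotient.mkₐ_ker R _] at h1
  obtain ⟨⟨a, ha⟩, hax⟩ := (Ideal.mem_iInf_smul_pow_eq_bot_iff 𝔪 _).1 hmem
  exact ⟨a, ha, hax⟩

end Trunc

section Fibres

variable {R B : Type u} [CommRing R] [CommRing B] [Algebra R B] [Algebra.Smooth R B]

/-- elements congruent to one along the section are regular after any base change -/
theorem nzd_of_section
    (hconn : ∀ (K : Type u) [Field K] [IsAlgClosed K] [Algebra R K], ConnectedSpace (PrimeSpectrum (K ⊗[R] B)))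
    (e : B →ₐ[R] R) (R' : Type u) [CommRing R'] [Algebra R R'] (f z : R' ⊗[R] B)
    (hf : Algebra.TensorProduct.lift (Algebra.ofId R' R') ((Algebra.ofId R R').comp e) (fun _ _ => .all _ _) f = 1)
    (hz : f * z = 0) : z = 0 := by
  let e' : R' ⊗[R] B →ₐ[R'] R' :=
    Algebra.TensorProduct.lift (Algebra.ofId R' R') ((Algebra.ofId R R').comp e) fun _ _ => .all _ _
  haveI : Module.Flat R B := Algebra.Smooth.flat R B
  haveI : Module.Flat R' (R' ⊗[R] B) := Algebra.Smooth.flat R' _
  refine eq_zero_of_mul_eq_zero (R := R') f (fun p _ y hy => ?_) hz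
  let k := p.ResidueField
  let ep : k ⊗[R'] (R' ⊗[R] B) →ₐ[k] k :=
    Algebra.TensorProduct.lift (Algebra.ofId k k) ((Algebra.ofId R' k).comp e') fun _ _ => .all _ _
  haveI : Nontrivial (p.Fiber (R' ⊗[R] B)) := ep.toRingHom.domain_nontrivial
  haveI : IsDomain (p.Fiber (R' ⊗[R] B)) := by
    refine isDomain_of_smooth k _ fun c hc => ?_
    let K := AlgebraicClosure k
    let Φ : k ⊗[R'] (R' ⊗[R] B) →+* K ⊗[R] B :=
      (Algebra.TensorProduct.map (IsScalarTower.toAlgHom R k K) (AlgHom.id R B)).toRingHom.comp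
        (Algebra.TensorProduct.cancelBaseChange R R' R' k B).toAlgHom.toRingHom
    have hΦ : Function.Injective Φ :=
      (Module.Flat.rTensor_preserves_injective_linearMap (M := B) (IsScalarTower.toAlgHom R k K).toLinearMap
        (algebraMap k K).injective).comp (Algebra.TensorProduct.cancelBaseChange R R' R' k B).injective
    have hc' := hc.map Φ
    haveI := hconn K
    rcases isClopen_iff.1 (⟨(PrimeSpectrum.basicOpen_eq_zeroLocus_of_isIdempotentElem _ hc').symm ▸
      PrimeSpectrum.isClosed_zeroLocus _, (PrimeSpectrum.basicOpen (Φ c)).isOpen⟩ :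
        IsClopen (PrimeSpectrum.basicOpen (Φ c) : Set (PrimeSpectrum (K ⊗[R] B)))) with h0 | h1
    · refine Or.inl (hΦ ?_)
      rw [map_zero]
      exact PrimeSpectrum.basicOpen_injOn_isIdempotentElem hc' IsIdempotentElem.zero
        (TopologicalSpace.Opens.ext (by simp [h0]))
    · refine Or.inr (hΦ ?_)
      rw [map_one]
      exact PrimeSpectrum.basicOpen_injOn_isIdempotentElem hc' IsIdempotentElem.one
        (TopologicalSpace.Opens.ext (by simp [h1]))
  refine (mul_eq_zero.1 hy).resolve_left fun h0 => ?_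
  have h1 : ep ((1 : k) ⊗ₜ[R'] f) = 1 := by
    simp only [ep, Algebra.TensorProduct.lift_tmul, map_one, one_mul, AlgHom.comp_apply]
    rw [show e' f = 1 from hf, map_one]
  rw [h0, map_zero] at h1
  exact zero_ne_one h1

end Fibres

end Groth.Agent.InfNbhd
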