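import Groth.Agent.GeomProp.SmoothReg
import Groth.Agent.GeomProp.RegLocal
import Groth.Agent.InjFibre.Alg
import Groth.Agent.S0558
import Mathlib

/-!
Connected smooth algebras over a field are domains; elements non-zero on all fibres of a smooth algebra with
connected fibres are non-zero-divisors.
-/

set_option autoImplicit false
set_option linter.style.haveILetI false

universe u

open TensorProduct

namespace Groth.Agent.InfNbhd

/-- a connected Noetherian ring with domains as local rings is a domain -/
theorem isDomain_of_connected {A : Type u} [CommRing A] [IsNoetherianRing A] [Nontrivial A]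
    (hloc : ∀ p : Ideal A, p.IsPrime → ∀ [p.IsPrime], IsDomain (Localization.AtPrime p))
    (hidem : ∀ c : A, IsIdempotentElem c → c = 0 ∨ c = 1) : IsDomain A := by
  have key : ∀ a b : A, a * b = 0 → a = 0 ∨ b = 0 := by
    intro a b hab
    let J : Ideal A := Submodule.annihilator (Ideal.span {a})
    have hJ : ∀ v, v ∈ J ↔ v * a = 0 := fun v => by
      simp only [J, Submodule.mem_annihilator_span_singleton, smul_eq_mul]
    let J' : Ideal A := Submodule.annihilator J
    have htop : J ⊔ J' = ⊤ := by
      by_contra h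
      obtain ⟨m, hm, hle⟩ := Ideal.exists_le_maximal _ h
      haveI := hm.isPrime
      haveI := hloc m hm.isPrime
      obtain ⟨hle1, hle2⟩ := sup_le_iff.1 hle
      by_cases ha : algebraMap A (Localization.AtPrime m) a = 0
      · obtain ⟨s, hs⟩ := (IsLocalization.map_eq_zero_iff m.primeCompl _ a).1 ha
        exact s.2 (hle1 ((hJ _).2 hs))
      · obtain ⟨G, hG⟩ := IsNoetherian.noetherian J
        have h1 : ∀ g ∈ G, ∃ s : m.primeCompl, (s : A) * g = 0 := fun g hg => by
          refine (IsLocalization.map_eq_zero_iff m.primeCompl (Localization.AtPrime m) g).1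
            ((mul_eq_zero.1 ?_).resolve_right ha)
          rw [← map_mul, (hJ g).1 (hG ▸ Submodule.subset_span hg), map_zero]
        choose s hs using h1
        let t : m.primeCompl := ∏ g ∈ G.attach, s g.1 g.2
        refine t.2 (hle2 ?_)
        refine Submodule.mem_annihilator.2 fun z hz => ?_
        have hz' : z ∈ Submodule.span A (G : Set A) := hG.symm ▸ hz
        rw [smul_eq_mul]
        induction hz' using Submodule.span_induction with
        | mem g hg =>
          obtain ⟨c, hc⟩ : s g hg ∣ t := Finset.dvd_prod_of_mem (fun g : G => s g.1 g.2) (G.mem_attach ⟨g, hg⟩)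
          rw [hc, Submonoid.coe_mul, mul_right_comm, hs g hg, zero_mul]
        | zero => rw [mul_zero]
        | add x y _ _ hx hy => rw [mul_add, hx (hG ▸ ‹x ∈ _›), hy (hG ▸ ‹y ∈ _›), add_zero]
        | smul c x _ hx => rw [smul_eq_mul, mul_left_comm, hx (hG ▸ ‹x ∈ _›), mul_zero]
    obtain ⟨v, hv, w, hw, hvw⟩ := Submodule.mem_sup.1 (htop ▸ Submodule.mem_top : (1 : A) ∈ J ⊔ J')
    have hwv : w * v = 0 := Submodule.mem_annihilator.1 hw v hv
    have hw' : w = 1 - v := eq_sub_of_add_eq' hvw
    have hid : IsIdempotentElem v := by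
      show v * v = v
      calc v * v = v * v + w * v := by rw [hwv, add_zero]
        _ = (v + w) * v := by ring
        _ = v := by rw [hvw, one_mul]
    rcases hidem v hid with h0 | h1
    · refine Or.inr ?_
      have hb : b ∈ J := (hJ b).2 (by rw [mul_comm, hab])
      have := Submodule.mem_annihilator.1 hw b hb
      rw [hw', h0, sub_zero, smul_eq_mul, one_mul] at this
      exact this
    · exact Or.inl (by simpa [h1] using (hJ v).1 hv)
  haveI : NoZeroDivisors A := ⟨fun {a b} h => key a b h⟩
  exact NoZeroDivisors.to_isDomain A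

/-- a connected smooth algebra over a field is a domain -/
theorem isDomain_of_smooth (k S : Type u) [Field k] [CommRing S] [Algebra k S] [Algebra.Smooth k S] [Nontrivial S]
    (hidem : ∀ c : S, IsIdempotentElem c → c = 0 ∨ c = 1) : IsDomain S := by
  haveI : IsRegularRing S := GeomProp.isRegularRing_of_smooth k S
  exact isDomain_of_connected (fun p hp _ => S0558.result _) hidem

/-- elements of the kernel of the map to the fibre are killed by an element off the prime, modulo the prime -/
theorem exists_mul_mem_of_fibre_eq_zero {R S : Type u} [CommRing R] [CommRing S] [Algebra R S] (p : Ideal R)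
    [p.IsPrime] {a : S} (ha : (1 : p.ResidueField) ⊗ₜ[R] a = 0) :
    ∃ r ∉ p, algebraMap R S r * a ∈ p.map (algebraMap R S) := by
  letI : Algebra S (p.Fiber S) := Algebra.TensorProduct.rightAlgebra
  have h := (Ideal.Fiber.algEquivAux₁ (S := S) p).commutes a
  rw [show algebraMap S (p.Fiber S) a = (1 : p.ResidueField) ⊗ₜ[R] a from rfl, ha, map_zero,
    IsScalarTower.algebraMap_apply S (Localization (Algebra.algebraMapSubmonoid S p.primeCompl)),
    Ideal.Quotient.algebraMap_eq, eq_comm, Ideal.Quotient.eq_zero_iff_mem,
    IsLocalization.algebraMap_mem_map_algebraMap_iff (Algebra.algebraMapSubmonoid S p.primeCompl)] at h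
  obtain ⟨_, ⟨r, hr, rfl⟩, hm⟩ := h
  exact ⟨r, hr, hm⟩

/-- **non-zero on every fibre means regular** for flat finitely presented algebras with domains as fibres -/
theorem eq_zero_of_mul_eq_zero {R S : Type u} [CommRing R] [CommRing S] [Algebra R S]
    [Algebra.FinitePresentation R S] [Module.Flat R S] (f : S)
    (hf : ∀ (p : Ideal R) [p.IsPrime] (y : p.Fiber S), (1 : p.ResidueField) ⊗ₜ[R] f * y = 0 → y = 0)
    {z : S} (hz : f * z = 0) : z = 0 := by
  by_contra hz0
  have hne : Submodule.annihilator (Ideal.span {z}) ≠ ⊤ := fun h => hz0 (by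
    have := (Submodule.mem_annihilator_span_singleton z (1 : S)).1 (h ▸ Submodule.mem_top)
    simpa using this)
  obtain ⟨q, hq, hle⟩ := Ideal.exists_le_maximal _ hne
  haveI := hq.isPrime
  let Sq := Localization.AtPrime q
  haveI : Module.Flat S Sq := IsLocalization.flat Sq q.primeCompl
  haveI : Module.Flat R Sq := Module.Flat.trans R S Sq
  let p := q.comap (algebraMap R S)
  let J := p.map (algebraMap R Sq)
  have hJ : J = (p.map (algebraMap R S)).map (algebraMap S Sq) := by
    rw [Ideal.map_map, ← IsScalarTower.algebraMap_eq]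
  have H : ∀ x : Sq, (algebraMap S Sq f • LinearMap.id : Sq →ₗ[Sq] Sq) x ∈ J • (⊤ : Submodule Sq Sq) →
      x ∈ J • (⊤ : Submodule Sq Sq) := by
    intro x hx
    simp only [LinearMap.smul_apply, LinearMap.id_apply, smul_eq_mul, Ideal.mul_top] at hx ⊢
    obtain ⟨⟨a, s⟩, rfl⟩ := IsLocalization.mk'_surjective q.primeCompl x
    rw [hJ, IsLocalization.mul_mk'_eq_mk'_of_mul, IsLocalization.mk'_mem_iff,
      IsLocalization.algebraMap_mem_map_algebraMap_iff q.primeCompl] at hx
    rw [hJ, IsLocalization.mk'_mem_iff, IsLocalization.algebraMap_mem_map_algebraMap_iff q.primeCompl]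
    obtain ⟨t, ht, hta⟩ := hx
    have h0 : (1 : p.ResidueField) ⊗ₜ[R] (t * (f * a)) = 0 := by
      have hle : p.map (algebraMap R S) ≤
          RingHom.ker (Algebra.TensorProduct.includeRight : S →ₐ[R] p.ResidueField ⊗[R] S).toRingHom := by
        rw [Ideal.map_le_iff_le_comap]
        intro r hr
        show Algebra.TensorProduct.includeRight (algebraMap R S r) = (0 : p.ResidueField ⊗[R] S)
        rw [AlgHom.commutes, IsScalarTower.algebraMap_apply R p.ResidueField,
          Ideal.algebraMap_residueField_eq_zero.2 hr, map_zero]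
      exact hle hta
    have h1 : (1 : p.ResidueField) ⊗ₜ[R] (t * a) = 0 := hf p _ (by
      rw [Algebra.TensorProduct.tmul_mul_tmul, mul_one, show f * (t * a) = t * (f * a) by ring]
      exact h0)
    obtain ⟨r, hr, hra⟩ := exists_mul_mem_of_fibre_eq_zero p h1
    refine ⟨algebraMap R S r * t, fun h => ?_, by rwa [mul_assoc]⟩
    exact (hq.isPrime.mem_or_mem h).elim hr ht
  obtain ⟨hinj, -⟩ := InjFibre.atPrime q (algebraMap S Sq f • LinearMap.id : Sq →ₗ[Sq] Sq) H
  have h0 : algebraMap S Sq z = 0 := hinj (by
    show algebraMap S Sq f * algebraMap S Sq z = algebraMap S Sq f * 0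
    rw [← map_mul, hz, map_zero, mul_zero])
  obtain ⟨s, hs⟩ := (IsLocalization.map_eq_zero_iff q.primeCompl Sq z).1 h0
  exact s.2 (hle ((Submodule.mem_annihilator_span_singleton z (s : S)).2 hs))

end Groth.Agent.InfNbhd
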